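import Cfsg.Agent.Lib.Recog.SporBound.Fi22Outer.Checks.Codes

set_option autoImplicit false
set_option maxRecDepth 20000
set_option Elab.async false

/-! Kernel checks for the classes of outer involutions of Fi22 (owner: helper24; split by helper18). -/

namespace CfsgLib.Recog.SporBound.Fi22Outer

open CfsgLib.Recog.SporBound.Fi22Pair

theorem codes_distinct : distinctB (codes0 ++ codes1 ++ codes2 ++ codes3 ++ codes4 ++ codes5 ++ codes6 ++ codes7) = true := by decide +kernel

/-- A mapped list from the values on its pieces. -/
theorem map_drop_eq {α : Type} (f : α → ℕ) (a n : ℕ) (l : List α) (c d : List ℕ)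
    (h : ((l.drop a).take n).map f = c) (h' : (l.drop (a + n)).map f = d) : (l.drop a).map f = c ++ d := by
  rw [← List.take_append_drop n (l.drop a), List.map_append, h, List.drop_drop, h']

theorem codes_eq : (stabData.map fun e => wordCode e.1) = codes0 ++ codes1 ++ codes2 ++ codes3 ++ codes4 ++ codes5 ++ codes6 ++ codes7 := by
  have h : ((stabData.drop 576).map fun e => wordCode e.1) = [] := by
    rw [List.drop_eq_nil_of_le (Nat.le_of_eq stab_ok.2.1), List.map_nil]
  replace h := map_drop_eq _ 504 72 _ _ _ codes_ok7 h
  replace h := map_drop_eq _ 432 72 _ _ _ codes_ok6 h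
  replace h := map_drop_eq _ 360 72 _ _ _ codes_ok5 h
  replace h := map_drop_eq _ 288 72 _ _ _ codes_ok4 h
  replace h := map_drop_eq _ 216 72 _ _ _ codes_ok3 h
  replace h := map_drop_eq _ 144 72 _ _ _ codes_ok2 h
  replace h := map_drop_eq _ 72 72 _ _ _ codes_ok1 h
  replace h := map_drop_eq _ 0 72 _ _ _ codes_ok0 h
  simpa [List.append_assoc] using h

theorem stab_distinct : distinctB (stabData.map fun e => wordCode e.1) = true := by
  rw [codes_eq]; exact codes_distinct

end CfsgLib.Recog.SporBound.Fi22Outer
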