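import Cfsg.Agent.Lib.Recog.SporBound.Fi22Outer.Checks.Defs

set_option autoImplicit false
set_option maxRecDepth 20000
set_option Elab.async false

/-! Kernel checks for the classes of outer involutions of Fi22 (owner: helper24; split by helper18). -/

namespace CfsgLib.Recog.SporBound.Fi22Outer

open CfsgLib.Recog.SporBound.Fi22Pair

/-- The check of the involutions on a piece of the stabiliser. -/
def invPart (k : ℕ) : Bool := ((stabData.drop (72 * k)).take 72).all invOK

theorem inv_ok0 : invPart 0 = true := by decide +kernel

theorem inv_ok1 : invPart 1 = true := by decide +kernel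

theorem inv_ok2 : invPart 2 = true := by decide +kernel

theorem inv_ok3 : invPart 3 = true := by decide +kernel

theorem inv_ok4 : invPart 4 = true := by decide +kernel

theorem inv_ok5 : invPart 5 = true := by decide +kernel

theorem inv_ok6 : invPart 6 = true := by decide +kernel

theorem inv_ok7 : invPart 7 = true := by decide +kernel

theorem inv_ok : stabData.all invOK = true := by
  refine all_of_pieces _ 72 8 _ (Nat.le_of_eq stab_ok.2.1) fun k hk => ?_
  match k, hk with
  | 0, _ => exact inv_ok0
  | 1, _ => exact inv_ok1
  | 2, _ => exact inv_ok2
  | 3, _ => exact inv_ok3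
  | 4, _ => exact inv_ok4
  | 5, _ => exact inv_ok5
  | 6, _ => exact inv_ok6
  | 7, _ => exact inv_ok7
  | _ + 8, h => exact absurd h (by omega)

end CfsgLib.Recog.SporBound.Fi22Outer
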