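import Cfsg.Agent.Lib.Recog.SporBound.Fi22Pair.Checks
import Cfsg.Agent.Lib.Recog.SporBound.Fi22Outer.Data

set_option autoImplicit false
set_option maxRecDepth 20000
set_option Elab.async false

/-! Kernel checks for the classes of outer involutions of Fi22 (owner: helper24). -/

namespace CfsgLib.Recog.SporBound.Fi22Outer

open CfsgLib.Recog.SporBound.Fi22Pair

/-- The image of a row under a product of data. -/
noncomputable def evSeq (l : List (Bool × List ℕ)) (c : ℕ) : ℕ := l.foldr (fun e x => ev e x) c

/-- The image of a fibre under a word in the transvections. -/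
def wordFn (w : List ℕ) (m : ℕ) : ℕ := w.foldr (fun k x => tauFn k x) m

/-- The odd permutation. -/
def oddFn (m : ℕ) : ℕ := oddPerm.getD m 0

/-- The data of a word in the transvections. -/
def gSeq (w : List ℕ) : List (Bool × List ℕ) := w.map fun k => (false, [rep k])

/-- The lift of a class. -/
def rootSeq (i : ℕ) : List (Bool × List ℕ) := oddData :: gSeq (rootData.getD i [])

/-- Products over the kernel of the action on the fibres. -/
def qSeqs : ℕ → List (List (Bool × List ℕ))
  | 0 => [[], [zData]]
  | n + 1 => [[], [vEl n], [uEl n], [uEl n, vEl n]].flatMap fun p => (qSeqs n).map fun q => p ++ q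

/-- A code of a permutation given as a word. -/
def wordCode (w : List ℕ) : ℕ := (List.range 45).foldl (fun a m => a * 64 + wordFn w m) 0

/-- An involution of the coset is conjugate to a class representative. -/
def invOK (e : List ℕ × List ℕ × ℕ) : Bool :=
  ((List.range 45).any fun c => !Nat.beq (oddFn (wordFn e.1 (oddFn (wordFn e.1 c)))) c) ||
    (Nat.blt 0 e.2.2 && Nat.blt (e.2.2 - 1) 3 && e.2.1.all (fun k => Nat.blt k 45) &&
      (List.range 45).all fun c => Nat.beq (wordFn e.2.1 (oddFn (wordFn e.1 c)))
        (oddFn (wordFn (rootData.getD (e.2.2 - 1) []) (wordFn e.2.1 c))))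

/-- A product in a class is no involution fixing the first row, or is conjugate to a representative. -/
noncomputable def certOK (i idx : ℕ) (q : List (Bool × List ℕ)) : Bool :=
  !Nat.beq (evSeq (rootSeq i ++ q) 0) 0 || !agree (fun c => evSeq (rootSeq i ++ q) (evSeq (rootSeq i ++ q) c)) id ||
    (certData.getD i []).any fun e => Nat.beq e.1 idx && Nat.blt e.2.1 3 && e.2.2.2.all (fun r => Nat.blt r 3510) &&
      agree (fun c => ev e.2.2 (ev (repData.getD e.2.1 zData) c)) (fun c => evSeq (rootSeq i ++ q) (ev e.2.2 c))

/-- The check over a list with positions. -/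
noncomputable def allFrom (f : ℕ → List (Bool × List ℕ) → Bool) : List (List (Bool × List ℕ)) → ℕ → Bool
  | [], _ => true
  | q :: l, k => f k q && allFrom f l (k + 1)

/-- A quarter of the check for a class. -/
noncomputable def certPart (i j : ℕ) : Bool := allFrom (certOK i) (((qSeqs 5).drop (512 * j)).take 512) (512 * j)

theorem move_ok : ((List.range 45).all fun k => (moveData.getD k []).all (fun j => Nat.blt j 45) &&
    Nat.beq (wordFn (moveData.getD k []) 0) k) = true := by decide +kernel

theorem stab_ok : (stabData.all fun e => e.1.all (fun j => Nat.blt j 45) && Nat.beq (wordFn e.1 0) 0) = true ∧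
    stabData.length = 576 ∧ oddFn 0 = 0 := by
  refine ⟨?_, ?_, ?_⟩ <;> decide +kernel

/-- The elements of a list differ. -/
def distinctB : List ℕ → Bool
  | [] => true
  | a :: l => l.all (fun b => !Nat.beq a b) && distinctB l

/-- A Boolean check on a list follows from the checks on its pieces. -/
theorem all_of_pieces {α : Type} (p : α → Bool) (n : ℕ) :
    ∀ (m : ℕ) (l : List α), l.length ≤ n * m → (∀ k < m, ((l.drop (n * k)).take n).all p = true) →
      l.all p = true
  | 0, l, hl, _ => by simp [List.eq_nil_of_length_eq_zero (by simpa using hl : l.length = 0)]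
  | m + 1, l, hl, h => by
    rw [← List.take_append_drop n l, List.all_append, Bool.and_eq_true]
    refine ⟨by simpa using h 0 (Nat.succ_pos m), all_of_pieces p n m (l.drop n) ?_ fun k hk => ?_⟩
    · rw [List.length_drop, Nat.mul_succ] at *; omega
    · have := h (k + 1) (Nat.succ_lt_succ hk)
      rwa [List.drop_drop, Nat.add_comm n (n * k), ← Nat.mul_succ]

end CfsgLib.Recog.SporBound.Fi22Outer
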