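import Cfsg.Agent.Lib.Recog.SporBound.Fi22Outer.Checks.Defs

set_option autoImplicit false
set_option maxRecDepth 20000
set_option Elab.async false

/-! Kernel checks for the classes of outer involutions of Fi22 (owner: helper24; split by helper18). -/

namespace CfsgLib.Recog.SporBound.Fi22Outer

open CfsgLib.Recog.SporBound.Fi22Pair

/-- The check of the kernel products on a piece of their list. -/
noncomputable def qPart (k : ℕ) : Bool :=
  (((qSeqs 5).drop (128 * k)).take 128).all fun q => q.all (fun e => !e.1) || !Nat.beq (evSeq q 0) 0

theorem qSeqs_five_length : (qSeqs 5).length = 2048 := by decide +kernel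

theorem q_inner0 : qPart 0 = true := by decide +kernel

theorem q_inner1 : qPart 1 = true := by decide +kernel

theorem q_inner2 : qPart 2 = true := by decide +kernel

theorem q_inner3 : qPart 3 = true := by decide +kernel

theorem q_inner4 : qPart 4 = true := by decide +kernel

theorem q_inner5 : qPart 5 = true := by decide +kernel

theorem q_inner6 : qPart 6 = true := by decide +kernel

theorem q_inner7 : qPart 7 = true := by decide +kernel

theorem q_inner8 : qPart 8 = true := by decide +kernel

theorem q_inner9 : qPart 9 = true := by decide +kernel

theorem q_inner10 : qPart 10 = true := by decide +kernel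

theorem q_inner11 : qPart 11 = true := by decide +kernel

theorem q_inner12 : qPart 12 = true := by decide +kernel

theorem q_inner13 : qPart 13 = true := by decide +kernel

theorem q_inner14 : qPart 14 = true := by decide +kernel

theorem q_inner15 : qPart 15 = true := by decide +kernel

theorem q_inner : ((qSeqs 5).all fun q => q.all (fun e => !e.1) || !Nat.beq (evSeq q 0) 0) = true := by
  refine all_of_pieces _ 128 16 _ (Nat.le_of_eq qSeqs_five_length) fun k hk => ?_
  match k, hk with
  | 0, _ => exact q_inner0
  | 1, _ => exact q_inner1
  | 2, _ => exact q_inner2
  | 3, _ => exact q_inner3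
  | 4, _ => exact q_inner4
  | 5, _ => exact q_inner5
  | 6, _ => exact q_inner6
  | 7, _ => exact q_inner7
  | 8, _ => exact q_inner8
  | 9, _ => exact q_inner9
  | 10, _ => exact q_inner10
  | 11, _ => exact q_inner11
  | 12, _ => exact q_inner12
  | 13, _ => exact q_inner13
  | 14, _ => exact q_inner14
  | 15, _ => exact q_inner15
  | _ + 16, h => exact absurd h (by omega)

end CfsgLib.Recog.SporBound.Fi22Outer
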